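import Cfsg.Agent.Lib.Helper12.TC.CoxE7x56.Rel0
import Cfsg.Agent.Lib.Helper12.TC.CoxE7Pres

/-! the permutation representation for CoxE7x56 (generated, helper12) -/

set_option autoImplicit false
set_option maxRecDepth 100000
set_option linter.unusedSimpArgs false

namespace Cfsg.Agent.Lib.Helper12.TC.CoxE7x56

open Cfsg.Agent.Lib.Helper12.TC Cfsg.Agent.Lib.Helper12.TC.CoxE7Pres

theorem hperm : Fn.permK TT 7 cN = true := by
  refine Fn.permK_of_ones (fun x hx => ?_)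
  interval_cases x
  · exact hperm0
  · exact hperm1
  · exact hperm2
  · exact hperm3
  · exact hperm4
  · exact hperm5
  · exact hperm6

/-- words as powers -/
def specs : List (List ℕ × ℕ) :=
  [([0, 1], 3),
   ([0, 2], 2),
   ([1, 2], 3),
   ([0, 3], 2),
   ([1, 3], 2),
   ([2, 3], 3),
   ([0, 4], 2),
   ([1, 4], 2),
   ([2, 4], 2),
   ([3, 4], 3),
   ([0, 5], 2),
   ([1, 5], 2),
   ([2, 5], 2),
   ([3, 5], 2),
   ([4, 5], 3),
   ([0, 6], 2),
   ([1, 6], 2),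
   ([2, 6], 2),
   ([3, 6], 3),
   ([4, 6], 2),
   ([5, 6], 2)]

theorem hspecs : coxWords Cfsg.Agent.Lib.Helper12.Ord.CoxE7.edges gen 7 ++ extraWords =
    specs.map (fun s => wpow s.1 s.2) := by
  decide +kernel

theorem hfixall : Fn.FixAll TT cN specs :=
  Fn.fixAll_cons (Fn.fix_of_marksK hm0)
    (Fn.fixAll_cons (Fn.fix_of_marksK hm1)
    (Fn.fixAll_cons (Fn.fix_of_marksK hm2)
    (Fn.fixAll_cons (Fn.fix_of_marksK hm3)
    (Fn.fixAll_cons (Fn.fix_of_marksK hm4)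
    (Fn.fixAll_cons (Fn.fix_of_marksK hm5)
    (Fn.fixAll_cons (Fn.fix_of_marksK hm6)
    (Fn.fixAll_cons (Fn.fix_of_marksK hm7)
    (Fn.fixAll_cons (Fn.fix_of_marksK hm8)
    (Fn.fixAll_cons (Fn.fix_of_marksK hm9)
    (Fn.fixAll_cons (Fn.fix_of_marksK hm10)
    (Fn.fixAll_cons (Fn.fix_of_marksK hm11)
    (Fn.fixAll_cons (Fn.fix_of_marksK hm12)
    (Fn.fixAll_cons (Fn.fix_of_marksK hm13)
    (Fn.fixAll_cons (Fn.fix_of_marksK hm14)
    (Fn.fixAll_cons (Fn.fix_of_marksK hm15)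
    (Fn.fixAll_cons (Fn.fix_of_marksK hm16)
    (Fn.fixAll_cons (Fn.fix_of_marksK hm17)
    (Fn.fixAll_cons (Fn.fix_of_marksK hm18)
    (Fn.fixAll_cons (Fn.fix_of_marksK hm19)
    (Fn.fixAll_cons (Fn.fix_of_marksK hm20)
    (Fn.fixAll_nil TT cN)))))))))))))))))))))

theorem hrels : Fn.relsK TT cN (coxWords Cfsg.Agent.Lib.Helper12.Ord.CoxE7.edges gen 7 ++ extraWords) = true := by
  rw [hspecs]
  exact Fn.relsK_of_fixAll hfixall

theorem hsub : Fn.subK TT 7 sw = true := by decide +kernel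

theorem htrans : Fn.transK TT 7 cN sw = true := by decide +kernel

end Cfsg.Agent.Lib.Helper12.TC.CoxE7x56
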